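import Groth.Agent.Lib.Helper73.SepNil.Ring
import Groth.Agent.Lib.Helper21.SepPull
import Groth.Agent.Lib.Helper22.FlatBC
import Groth.Agent.Lib.Lead.QCohAff5

/-!
# Separating families modulo a nilpotent ideal with free graded pieces (scheme level)
-/

set_option autoImplicit false
set_option linter.style.haveILetI false
universe u

open AlgebraicGeometry CategoryTheory Opposite TopologicalSpace

namespace Groth.Agent.Lib.Helper73.SepNil

open Scheme.Modules TensorProduct Groth.Agent.Lib.Lead.PullbackAff Groth.Agent.Lib.Lead.QCohAff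
  Groth.Agent.Lib.Helper21.QCohSections Groth.Agent.Lib.Helper21.PullNat

theorem flat_compHom_of_bijective {R S : Type u} [CommRing R] [CommRing S] (f : R →+* S)
    (hf : Function.Bijective f) (N : Type u) [AddCommGroup N] [Module S N] [Module.Flat S N] :
    @Module.Flat R N _ _ (Module.compHom N f) := by
  letI := f.toAlgebra
  letI : Module R N := Module.compHom N f
  haveI : IsScalarTower R S N := IsScalarTower.of_algebraMap_smul fun r m => rfl
  haveI : Module.Flat R S :=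
    Module.Flat.of_linearEquiv (LinearEquiv.ofBijective (Algebra.linearMap R S) hf).symm
  exact Module.Flat.trans R S N

set_option maxRecDepth 8000 in
theorem separating_of_mod_nilpotent {X : Scheme.{u}} (A : CommRingCat.{u}) (p : X ⟶ Spec A)
    (J : Ideal ↑A) (hJ : IsNilpotent J)
    (hfree : ∀ k : ℕ, Module.Free (↑A ⧸ J) ((↑A ⧸ J) ⊗[↑A] ↥(J ^ k)))
    (F : X.Modules) [F.IsQuasicoherent] {ι : Type u} (G : ι → X.Modules)
    [∀ i, (G i).IsQuasicoherent]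
    (hG : ∀ i, FlatMod.IsFlatOver p (G i)) (u : ∀ i, F ⟶ G i)
    (h0 : ∀ (W : (Limits.pullback p (Spec.map (CommRingCat.ofHom (Ideal.Quotient.mk J)))).Opens)
      (t : Γ((Scheme.Modules.pullback (Limits.pullback.fst p
        (Spec.map (CommRingCat.ofHom (Ideal.Quotient.mk J))))).obj F, W)),
      (∀ i, ((Scheme.Modules.pullback (Limits.pullback.fst p
        (Spec.map (CommRingCat.ofHom (Ideal.Quotient.mk J))))).map (u i)).app W t = 0) → t = 0)
    (V : X.Opens) (t : Γ(F, V)) (ht : ∀ i, (u i).app V t = 0) : t = 0 := by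
  apply TopCat.Presheaf.IsSheaf.section_ext F.isSheaf (U := op V)
  intro x hx
  obtain ⟨_, ⟨U, hU, rfl⟩, hxU, hle⟩ := X.isBasis_affineOpens.exists_subset_of_mem_open hx V.2
  replace hU : IsAffineOpen U := hU
  refine ⟨U, hle, hxU, ?_⟩
  rw [map_zero]
  set g₀ := Spec.map (CommRingCat.ofHom (Ideal.Quotient.mk J)) with hg₀
  set fst := Limits.pullback.fst p g₀ with hfst
  set snd := Limits.pullback.snd p g₀ with hsnd
  have e : U ≤ p ⁻¹ᵁ ⊤ := le_top
  have e' : (⊤ : (Spec (CommRingCat.of (↑A ⧸ J))).Opens) ≤ g₀ ⁻¹ᵁ ⊤ := fun _ _ => trivial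
  have H : IsPullback fst snd p g₀ := IsPullback.of_hasPullback p g₀
  have hpush := (isIso_pushoutSection_iff H e' e rfl).mp
    (isIso_pushoutSection_of_isAffineOpen H e' e rfl (isAffineOpen_top _) (isAffineOpen_top _) hU)
  have hW : IsAffineOpen (fst ⁻¹ᵁ U ⊓ snd ⁻¹ᵁ ⊤) := by
    have : IsAffine (⊤ : (Spec A).Opens) := isAffineOpen_top _
    have : IsAffine (⊤ : (Spec (CommRingCat.of (↑A ⧸ J))).Opens) := isAffineOpen_top _
    have : IsAffine U := hU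
    exact .of_isIso (Scheme.Hom.isPullback_resLE H e' e rfl).isoPullback.hom
  -- the pasted pushout square
  have sq : CategoryTheory.CommSq (Scheme.ΓSpecIso A).inv (CommRingCat.ofHom (Ideal.Quotient.mk J))
      (g₀.appLE ⊤ ⊤ e') (Scheme.ΓSpecIso (CommRingCat.of (↑A ⧸ J))).inv := by
    constructor
    rw [hg₀, Scheme.ΓSpecIso_inv_naturality]
    congr 1
  have hP := (IsPushout.of_horiz_isIso sq).paste_horiz hpush
  -- algebra structures
  letI algAR : Algebra ↑A Γ(X, U) := ((Scheme.ΓSpecIso A).inv ≫ p.appLE ⊤ U e).hom.toAlgebra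
  letI algRR' : Algebra Γ(X, U) Γ(Limits.pullback p g₀, fst ⁻¹ᵁ U ⊓ snd ⁻¹ᵁ ⊤) :=
    (fst.appLE U (fst ⁻¹ᵁ U ⊓ snd ⁻¹ᵁ ⊤) inf_le_left).hom.toAlgebra
  letI algA'R' : Algebra (↑A ⧸ J) Γ(Limits.pullback p g₀, fst ⁻¹ᵁ U ⊓ snd ⁻¹ᵁ ⊤) :=
    ((Scheme.ΓSpecIso (CommRingCat.of (↑A ⧸ J))).inv ≫
      snd.appLE ⊤ (fst ⁻¹ᵁ U ⊓ snd ⁻¹ᵁ ⊤) inf_le_right).hom.toAlgebra
  letI algAR' : Algebra ↑A Γ(Limits.pullback p g₀, fst ⁻¹ᵁ U ⊓ snd ⁻¹ᵁ ⊤) :=
    ((algebraMap Γ(X, U) Γ(Limits.pullback p g₀, fst ⁻¹ᵁ U ⊓ snd ⁻¹ᵁ ⊤)).comp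
      (algebraMap ↑A Γ(X, U))).toAlgebra
  haveI t1 : IsScalarTower ↑A Γ(X, U) Γ(Limits.pullback p g₀, fst ⁻¹ᵁ U ⊓ snd ⁻¹ᵁ ⊤) :=
    IsScalarTower.of_algebraMap_eq' rfl
  haveI t2 : IsScalarTower ↑A (↑A ⧸ J) Γ(Limits.pullback p g₀, fst ⁻¹ᵁ U ⊓ snd ⁻¹ᵁ ⊤) :=
    IsScalarTower.of_algebraMap_eq' (by
      have := congrArg CommRingCat.Hom.hom hP.w
      exact this)
  haveI hPA : Algebra.IsPushout ↑A (↑A ⧸ J) Γ(X, U)
      Γ(Limits.pullback p g₀, fst ⁻¹ᵁ U ⊓ snd ⁻¹ᵁ ⊤) := by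
    apply Algebra.IsPushout.symm
    exact CommRingCat.isPushout_iff_isPushout.mp hP
  -- module structures
  letI modAM : Module ↑A Γ(F, U) :=
    Module.compHom Γ(F, U) ((Scheme.ΓSpecIso A).inv ≫ p.appLE ⊤ U e).hom
  haveI : IsScalarTower ↑A Γ(X, U) Γ(F, U) := IsScalarTower.of_algebraMap_smul fun r m => rfl
  letI modAN : ∀ i, Module ↑A Γ(G i, U) := fun i =>
    Module.compHom Γ(G i, U) ((Scheme.ΓSpecIso A).inv ≫ p.appLE ⊤ U e).hom
  haveI : ∀ i, IsScalarTower ↑A Γ(X, U) Γ(G i, U) := fun i =>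
    IsScalarTower.of_algebraMap_smul fun r m => rfl
  haveI hflat : ∀ i, Module.Flat ↑A Γ(G i, U) := by
    intro i
    have hfl := (flat_sections_iff p (G i) hU (isAffineOpen_top _) e).2 (fun x _ => hG i x)
    letI : Module Γ(Spec A, ⊤) Γ(G i, U) := Module.compHom Γ(G i, U) (p.appLE ⊤ U e).hom
    haveI : Module.Flat Γ(Spec A, ⊤) Γ(G i, U) := hfl
    exact flat_compHom_of_bijective (Scheme.ΓSpecIso A).inv.hom
      (ConcreteCategory.bijective_of_isIso (Scheme.ΓSpecIso A).inv) Γ(G i, U)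
  -- the hypothesis on the closed subscheme, in ring terms
  have h0' : ∀ y : Γ(Limits.pullback p g₀, fst ⁻¹ᵁ U ⊓ snd ⁻¹ᵁ ⊤) ⊗[Γ(X, U)] Γ(F, U),
      (∀ i, LinearMap.lTensor Γ(Limits.pullback p g₀, fst ⁻¹ᵁ U ⊓ snd ⁻¹ᵁ ⊤) (appL (u i) U) y = 0) →
        y = 0 := by
    intro y hy
    have hs := h0 (fst ⁻¹ᵁ U ⊓ snd ⁻¹ᵁ ⊤) ((sectionsPullbackEquiv fst F hW hU inf_le_left).symm y) (by
      intro i
      apply (sectionsPullbackEquiv fst (G i) hW hU inf_le_left).injective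
      rw [sectionsPullbackEquiv_naturality, LinearEquiv.apply_symm_apply, hy i, map_zero])
    calc y = (sectionsPullbackEquiv fst F hW hU inf_le_left)
          ((sectionsPullbackEquiv fst F hW hU inf_le_left).symm y) :=
            (LinearEquiv.apply_symm_apply _ _).symm
      _ = 0 := by rw [hs, map_zero]
  refine jointly_injective_of_isPushout J hJ hfree (R := Γ(X, U))
    (R' := Γ(Limits.pullback p g₀, fst ⁻¹ᵁ U ⊓ snd ⁻¹ᵁ ⊤)) (N := fun i => Γ(G i, U))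
    (fun i => appL (u i) U) h0' _ ?_
  intro i
  rw [appL_apply, Groth.Agent.Lib.Helper2.KerSec.naturality_apply, ht, map_zero]

end Groth.Agent.Lib.Helper73.SepNil
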