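import Mathlib

/-!
# Separating families modulo a nilpotent ideal with free graded pieces (ring level)

`jointly_injective_of_mod_nilpotent`: `J ⊆ A` nilpotent with `(A/J) ⊗ J^k` free over `A/J`,
`v_i : M → N_i` with `N_i` flat over `A`; if the family `(A/J) ⊗ v_i` is jointly injective then so is
`(v_i)`.
-/

set_option autoImplicit false
universe u

open TensorProduct

namespace Groth.Agent.Lib.Helper73.SepNil

section Ring

variable {A : Type u} [CommRing A] (J : Ideal A)
  {M : Type u} [AddCommGroup M] [Module A M]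

/-- multiplication map `I ⊗ P → P`. -/
noncomputable def mulMap (I : Ideal A) (P : Type u) [AddCommGroup P] [Module A P] :
    (I ⊗[A] P) →ₗ[A] P :=
  (TensorProduct.lid A P).toLinearMap ∘ₗ LinearMap.rTensor P I.subtype

theorem mulMap_tmul (I : Ideal A) (P : Type u) [AddCommGroup P] [Module A P] (j : I) (p : P) :
    mulMap I P (j ⊗ₜ p) = (j : A) • p := by
  simp [mulMap]

theorem mulMap_injective_of_flat (I : Ideal A) (P : Type u) [AddCommGroup P] [Module A P]
    [Module.Flat A P] : Function.Injective (mulMap I P) := by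
  unfold mulMap
  rw [LinearMap.coe_comp, LinearEquiv.coe_coe]
  exact (TensorProduct.lid A P).injective.comp
    (Module.Flat.rTensor_preserves_injective_linearMap _ Subtype.val_injective)

theorem mulMap_lTensor (I : Ideal A) {P Q : Type u} [AddCommGroup P] [Module A P]
    [AddCommGroup Q] [Module A Q] (v : P →ₗ[A] Q) (τ : I ⊗[A] P) :
    mulMap I Q (LinearMap.lTensor I v τ) = v (mulMap I P τ) := by
  induction τ using TensorProduct.induction_on with
  | zero => simp
  | tmul j p => simp [mulMap_tmul]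
  | add a b ha hb => simp only [map_add, ha, hb]

theorem exists_of_mem_smul (I : Ideal A) (m : M) (hm : m ∈ I • (⊤ : Submodule A M)) :
    ∃ τ : I ⊗[A] M, mulMap I M τ = m := by
  refine Submodule.smul_induction_on hm (fun r hr n _ => ⟨⟨r, hr⟩ ⊗ₜ n, by simp [mulMap_tmul]⟩) ?_
  rintro x y ⟨a, ha⟩ ⟨b, hb⟩
  exact ⟨a + b, by simp [ha, hb]⟩

theorem mulMap_mem (I : Ideal A) (τ : I ⊗[A] M) : mulMap I M τ ∈ I • (⊤ : Submodule A M) := by
  induction τ using TensorProduct.induction_on with
  | zero => simp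
  | tmul j m => rw [mulMap_tmul]; exact Submodule.smul_mem_smul j.2 trivial
  | add a b ha hb => rw [map_add]; exact add_mem ha hb

theorem mulMap_mem_of_mem_smul (I : Ideal A) (τ : I ⊗[A] M)
    (hτ : τ ∈ J • (⊤ : Submodule A (I ⊗[A] M))) :
    mulMap I M τ ∈ (J * I) • (⊤ : Submodule A M) := by
  rw [Submodule.mul_smul]
  refine Submodule.smul_induction_on hτ (fun r hr n _ => ?_) (fun x y hx hy => ?_)
  · rw [map_smul]; exact Submodule.smul_mem_smul hr (mulMap_mem I n)
  · rw [map_add]; exact add_mem hx hy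

/-- coordinate functionals `I → A/J` of a basis of `(A/J) ⊗ I`. -/
noncomputable def coordMap {I : Ideal A} {B : Type*}
    (b : Module.Basis B (A ⧸ J) ((A ⧸ J) ⊗[A] I)) (c : B) : I →ₗ[A] (A ⧸ J) :=
  ((b.coord c).restrictScalars A) ∘ₗ (TensorProduct.mk A (A ⧸ J) I 1)

theorem mem_smul_top_of_coord {I : Ideal A} {B : Type*}
    (b : Module.Basis B (A ⧸ J) ((A ⧸ J) ⊗[A] I)) (τ : I ⊗[A] M)
    (h : ∀ c, LinearMap.rTensor M (coordMap J b c) τ = 0) :
    τ ∈ J • (⊤ : Submodule A (I ⊗[A] M)) := by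
  classical
  have h1 : (1 : A ⧸ J) ⊗ₜ[A] τ = 0 := by
    apply (TensorProduct.assoc A (A ⧸ J) I M).symm.injective
    rw [map_zero]
    let e : ((A ⧸ J) ⊗[A] I) ⊗[A] M ≃ₗ[A] (B →₀ (A ⧸ J) ⊗[A] M) :=
      (TensorProduct.congr (b.repr.restrictScalars A) (LinearEquiv.refl A M)) ≪≫ₗ
        TensorProduct.finsuppLeft A A (A ⧸ J) M B
    apply e.injective
    rw [map_zero]
    ext c
    have key : ∀ τ : I ⊗[A] M, e ((TensorProduct.assoc A (A ⧸ J) I M).symm (1 ⊗ₜ τ)) c =
        LinearMap.rTensor M (coordMap J b c) τ := by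
      intro τ
      induction τ using TensorProduct.induction_on with
      | zero => simp
      | tmul j m =>
        simp [e, TensorProduct.finsuppLeft_apply_tmul_apply, coordMap]
      | add a b ha hb => simp only [tmul_add, map_add, Finsupp.add_apply, ha, hb]
    rw [key, h c]; rfl
  have h2 := TensorProduct.quotTensorEquivQuotSMul_mk_one_tmul (M := I ⊗[A] M) J τ
  rw [h1, map_zero] at h2
  exact (Submodule.Quotient.mk_eq_zero _).1 h2.symm

/-- **Separating families modulo a nilpotent ideal with free graded pieces.** -/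
theorem jointly_injective_of_mod_nilpotent (hJ : IsNilpotent J)
    (hfree : ∀ k : ℕ, Module.Free (A ⧸ J) ((A ⧸ J) ⊗[A] ↥(J ^ k)))
    {ι : Type*} {N : ι → Type u} [∀ i, AddCommGroup (N i)] [∀ i, Module A (N i)]
    [∀ i, Module.Flat A (N i)] (v : ∀ i, M →ₗ[A] N i)
    (h0 : ∀ x : (A ⧸ J) ⊗[A] M, (∀ i, LinearMap.lTensor (A ⧸ J) (v i) x = 0) → x = 0)
    (m : M) (hm : ∀ i, v i m = 0) : m = 0 := by
  have step : ∀ k : ℕ, m ∈ (J ^ k) • (⊤ : Submodule A M) := by
    intro k
    induction k with
    | zero => simp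
    | succ k ih =>
      obtain ⟨τ, hτ⟩ := exists_of_mem_smul (J ^ k) m ih
      have hτi : ∀ i, LinearMap.lTensor (↥(J ^ k)) (v i) τ = 0 := by
        intro i
        apply mulMap_injective_of_flat (J ^ k) (N i)
        rw [map_zero, mulMap_lTensor, hτ, hm]
      haveI := hfree k
      let b := Module.Free.chooseBasis (A ⧸ J) ((A ⧸ J) ⊗[A] ↥(J ^ k))
      have hmem : τ ∈ J • (⊤ : Submodule A (↥(J ^ k) ⊗[A] M)) := by
        apply mem_smul_top_of_coord J b τ
        intro c
        apply h0
        intro i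
        rw [← LinearMap.comp_apply, LinearMap.lTensor_comp_rTensor,
          ← LinearMap.rTensor_comp_lTensor, LinearMap.comp_apply, hτi, map_zero]
      have := mulMap_mem_of_mem_smul J (J ^ k) τ hmem
      rw [hτ, ← pow_succ'] at this
      exact this
  obtain ⟨K, hK⟩ := hJ
  have := step K
  rw [hK] at this
  simpa using this

/-- Pushout form: `R` an `A`-algebra, `R' = (A/J) ⊗_A R`, the family `R' ⊗_R v_i` jointly
injective. -/
theorem jointly_injective_of_isPushout (hJ : IsNilpotent J)
    (hfree : ∀ k : ℕ, Module.Free (A ⧸ J) ((A ⧸ J) ⊗[A] ↥(J ^ k)))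
    {R R' : Type u} [CommRing R] [CommRing R'] [Algebra A R] [Algebra A R'] [Algebra R R']
    [Algebra (A ⧸ J) R'] [IsScalarTower A R R'] [IsScalarTower A (A ⧸ J) R']
    [Algebra.IsPushout A (A ⧸ J) R R']
    [Module R M] [IsScalarTower A R M]
    {ι : Type*} {N : ι → Type u} [∀ i, AddCommGroup (N i)] [∀ i, Module A (N i)]
    [∀ i, Module R (N i)] [∀ i, IsScalarTower A R (N i)] [∀ i, Module.Flat A (N i)]
    (v : ∀ i, M →ₗ[R] N i)
    (h0 : ∀ y : R' ⊗[R] M, (∀ i, LinearMap.lTensor R' (v i) y = 0) → y = 0)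
    (m : M) (hm : ∀ i, v i m = 0) : m = 0 := by
  refine jointly_injective_of_mod_nilpotent J hJ hfree (fun i => (v i).restrictScalars A) ?_ m hm
  intro x hx
  apply (Algebra.IsPushout.cancelBaseChange A (A ⧸ J) R R' M).symm.injective
  rw [map_zero]
  apply h0
  intro i
  have key : ∀ x : (A ⧸ J) ⊗[A] M,
      LinearMap.lTensor R' (v i) ((Algebra.IsPushout.cancelBaseChange A (A ⧸ J) R R' M).symm x) =
        (Algebra.IsPushout.cancelBaseChange A (A ⧸ J) R R' (N i)).symm
          (LinearMap.lTensor (A ⧸ J) ((v i).restrictScalars A) x) := by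
    intro x
    induction x using TensorProduct.induction_on with
    | zero => simp
    | tmul s m => simp [Algebra.IsPushout.cancelBaseChange_symm_tmul]
    | add a b ha hb => simp only [map_add, ha, hb]
  rw [key, hx i, map_zero]

end Ring

end Groth.Agent.Lib.Helper73.SepNil
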